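import Groth.Agent.SpreadClosedLib.Alg
import Mathlib.AlgebraicGeometry.PullbackCarrier

/-!
# Affine charts of a fibre product
-/

set_option autoImplicit false

universe u

open CategoryTheory CategoryTheory.Limits AlgebraicGeometry TensorProduct

namespace SpreadClosedLib

variable {X S T : Scheme.{u}} {f : X ⟶ S} {g : T ⟶ S} {R C B : Type u} [CommRing R] [CommRing C]
  [CommRing B] [Algebra R C] [Algebra R B] {v : Spec (CommRingCat.of R) ⟶ S}
  {e : Spec (CommRingCat.of C) ⟶ X} {h : Spec (CommRingCat.of B) ⟶ T}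
  (he : Spec.map (CommRingCat.ofHom (algebraMap R C)) ≫ v = e ≫ f)
  (hh : Spec.map (CommRingCat.ofHom (algebraMap R B)) ≫ v = h ≫ g)

/-- The chart `Spec (C ⊗ B) ⟶ X ×_S T`. -/
noncomputable def piece : Spec (CommRingCat.of (C ⊗[R] B)) ⟶ pullback f g :=
  (pullbackSpecIso R C B).inv ≫ pullback.map _ _ f g e h v he hh

theorem piece_fst : piece he hh ≫ pullback.fst f g =
    Spec.map (CommRingCat.ofHom (Algebra.TensorProduct.includeLeftRingHom : C →+* C ⊗[R] B)) ≫ e := by
  rw [piece, Category.assoc, show pullback.map _ _ f g e h v he hh ≫ pullback.fst f g =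
    pullback.fst _ _ ≫ e from pullback.lift_fst _ _ _, ← Category.assoc, pullbackSpecIso_inv_fst]

theorem piece_snd : piece he hh ≫ pullback.snd f g =
    Spec.map (CommRingCat.ofHom
      ((Algebra.TensorProduct.includeRight : B →ₐ[R] C ⊗[R] B).toRingHom)) ≫ h := by
  rw [piece, Category.assoc, show pullback.map _ _ f g e h v he hh ≫ pullback.snd f g =
    pullback.snd _ _ ≫ h from pullback.lift_snd _ _ _, ← Category.assoc, pullbackSpecIso_inv_snd]
  rfl

theorem range_piece [Mono v] : Set.range (piece he hh) =
    pullback.fst f g ⁻¹' Set.range e ∩ pullback.snd f g ⁻¹' Set.range h := by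
  rw [piece, Scheme.Hom.comp_base, TopCat.coe_comp,
    Function.Surjective.range_comp (f := ⇑(pullbackSpecIso R C B).inv)
      (pullbackSpecIso R C B).inv.homeomorph.surjective,
    Scheme.Pullback.range_map]

theorem isOpenImmersion_piece [IsOpenImmersion e] [IsOpenImmersion h] [Mono v] :
    IsOpenImmersion (piece he hh) := by
  rw [piece]; infer_instance

end SpreadClosedLib
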