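import Mathlib.RingTheory.TensorProduct.Maps
import Mathlib.Algebra.MvPolynomial.Eval
import Mathlib.RingTheory.Ideal.Maps
import Mathlib.RingTheory.Spectrum.Prime.Basic

/-!
# Lifting elements of a tensor product to a finitely presented stage
-/

set_option autoImplicit false

universe u

open TensorProduct

namespace SpreadClosedLib

variable {R C B : Type u} [CommRing R] [CommRing C] [CommRing B] [Algebra R C] [Algebra R B]

/-- The evaluation map of the polynomial ring on a finite set of elements. -/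
noncomputable def ev (F : Finset B) : MvPolynomial (↥F) R →ₐ[R] B :=
  MvPolynomial.aeval fun i : ↥F => (i : B)

theorem ev_X (F : Finset B) (b : B) (hb : b ∈ F) :
    ev (R := R) F (MvPolynomial.X ⟨b, hb⟩) = b := MvPolynomial.aeval_X _ _

variable (C) in
/-- The induced map on tensor products. -/
noncomputable def evT (F : Finset B) : C ⊗[R] MvPolynomial (↥F) R →ₐ[R] C ⊗[R] B :=
  Algebra.TensorProduct.map (AlgHom.id R C) (ev F)

theorem exists_lift (z : C ⊗[R] B) : ∃ F : Finset B, ∀ F', F ⊆ F' → ∃ z', evT C F' z' = z := by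
  classical
  induction z using TensorProduct.induction_on with
  | zero => exact ⟨∅, fun F' _ => ⟨0, map_zero _⟩⟩
  | tmul c b =>
    refine ⟨{b}, fun F' hF => ⟨c ⊗ₜ MvPolynomial.X ⟨b, hF (by simp)⟩, ?_⟩⟩
    change c ⊗ₜ[R] ev F' (MvPolynomial.X ⟨b, _⟩) = c ⊗ₜ[R] b
    rw [ev_X]
  | add z w hz hw =>
    obtain ⟨F, hF⟩ := hz
    obtain ⟨G, hG⟩ := hw
    refine ⟨F ∪ G, fun F' h => ?_⟩
    obtain ⟨z', hz'⟩ := hF F' (Finset.union_subset_left h)
    obtain ⟨w', hw'⟩ := hG F' (Finset.union_subset_right h)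
    exact ⟨z' + w', by rw [map_add, hz', hw']⟩

theorem exists_lift_mem (p : Ideal B) {w : C ⊗[R] B}
    (hw : w ∈ p.map (Algebra.TensorProduct.includeRight : B →ₐ[R] C ⊗[R] B).toRingHom) :
    ∃ F : Finset B, ∀ F', F ⊆ F' → ∃ w', evT C F' w' = w ∧
      w' ∈ (p.comap (ev (R := R) F').toRingHom).map
        (Algebra.TensorProduct.includeRight : MvPolynomial (↥F') R →ₐ[R] C ⊗[R] MvPolynomial (↥F') R).toRingHom := by
  classical
  rw [Ideal.map] at hw
  induction hw using Submodule.span_induction with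
  | mem z hz =>
    obtain ⟨b, hb, rfl⟩ := hz
    refine ⟨{b}, fun F' hF => ⟨(1 : C) ⊗ₜ MvPolynomial.X ⟨b, hF (by simp)⟩, ?_, ?_⟩⟩
    · change (1 : C) ⊗ₜ[R] ev F' (MvPolynomial.X ⟨b, _⟩) = (1 : C) ⊗ₜ[R] b
      rw [ev_X]
    · refine Ideal.mem_map_of_mem _ ?_
      change ev F' (MvPolynomial.X ⟨b, _⟩) ∈ p
      rw [ev_X]; exact hb
  | zero => exact ⟨∅, fun F' _ => ⟨0, map_zero _, zero_mem _⟩⟩
  | add z w _ _ hz hw =>
    obtain ⟨F, hF⟩ := hz
    obtain ⟨G, hG⟩ := hw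
    refine ⟨F ∪ G, fun F' h => ?_⟩
    obtain ⟨z', hz', hzm⟩ := hF F' (Finset.union_subset_left h)
    obtain ⟨w', hw', hwm⟩ := hG F' (Finset.union_subset_right h)
    exact ⟨z' + w', by rw [map_add, hz', hw'], add_mem hzm hwm⟩
  | smul c z _ hz =>
    obtain ⟨F, hF⟩ := hz
    obtain ⟨G, hG⟩ := exists_lift c
    refine ⟨F ∪ G, fun F' h => ?_⟩
    obtain ⟨z', hz', hzm⟩ := hF F' (Finset.union_subset_left h)
    obtain ⟨c', hc'⟩ := hG F' (Finset.union_subset_right h)
    exact ⟨c' * z', by rw [map_mul, hc', hz', smul_eq_mul], Ideal.mul_mem_left _ _ hzm⟩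

/-- If `V(J)` avoids the fibre over `p`, then some element of `J`, lifted to a finite stage, is
invertible on the fibre over the image of `p`. -/
theorem exists_separating (p : Ideal B) [p.IsPrime] (J : Ideal (C ⊗[R] B))
    (h : ∀ Q : Ideal (C ⊗[R] B), Q.IsPrime → J ≤ Q →
      Q.comap (Algebra.TensorProduct.includeRight : B →ₐ[R] C ⊗[R] B).toRingHom ≠ p) :
    ∃ F : Finset B, ∀ F', F ⊆ F' → ∃ j' : C ⊗[R] MvPolynomial (↥F') R, evT C F' j' ∈ J ∧
      ∀ Q : Ideal (C ⊗[R] MvPolynomial (↥F') R), Q.IsPrime →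
        Q.comap (Algebra.TensorProduct.includeRight :
          MvPolynomial (↥F') R →ₐ[R] C ⊗[R] MvPolynomial (↥F') R).toRingHom =
            p.comap (ev (R := R) F').toRingHom → j' ∉ Q := by
  classical
  let i : B →+* C ⊗[R] B := (Algebra.TensorProduct.includeRight : B →ₐ[R] C ⊗[R] B).toRingHom
  let S : Submonoid (C ⊗[R] B) := p.primeCompl.map (i : B →* C ⊗[R] B)
  obtain ⟨x, hxI, hxS⟩ : ∃ x, x ∈ J ⊔ p.map i ∧ x ∈ S := by
    by_contra hc
    simp only [not_exists, not_and] at hc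
    obtain ⟨Q, hQ, hle, hdis⟩ := Ideal.exists_le_prime_disjoint (J ⊔ p.map i) S
      (Set.disjoint_left.mpr hc)
    refine h Q hQ (le_sup_left.trans hle) (le_antisymm (fun b hb => ?_)
      (Ideal.map_le_iff_le_comap.mp (le_sup_right.trans hle)))
    by_contra hbp
    exact Set.disjoint_left.mp hdis hb ⟨b, hbp, rfl⟩
  obtain ⟨s, hs, hsx⟩ := hxS
  obtain ⟨j, hj, w, hw, hjw⟩ := Submodule.mem_sup.mp hxI
  obtain ⟨G, hG⟩ := exists_lift_mem p hw
  refine ⟨insert s G, fun F' hF => ?_⟩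
  obtain ⟨w', hw', hwm⟩ := hG F' ((Finset.subset_insert _ _).trans hF)
  refine ⟨(1 : C) ⊗ₜ MvPolynomial.X ⟨s, hF (Finset.mem_insert_self _ _)⟩ - w', ?_, fun Q hQ hQp hmem => ?_⟩
  · rw [map_sub, hw']
    change (1 : C) ⊗ₜ[R] ev F' (MvPolynomial.X ⟨s, _⟩) - w ∈ J
    rw [ev_X, show (1 : C) ⊗ₜ[R] s = x from hsx, ← hjw, add_sub_cancel_right]
    exact hj
  · have hwQ : w' ∈ Q := by
      refine Ideal.map_le_iff_le_comap.mpr ?_ hwm
      rw [← hQp]
    have hX : MvPolynomial.X ⟨s, hF (Finset.mem_insert_self _ _)⟩ ∈ p.comap (ev (R := R) F').toRingHom := by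
      rw [← hQp, Ideal.mem_comap]
      have := add_mem hmem hwQ
      rw [sub_add_cancel] at this
      exact this
    rw [Ideal.mem_comap] at hX
    change ev F' (MvPolynomial.X ⟨s, _⟩) ∈ p at hX
    rw [ev_X] at hX
    exact hs hX

end SpreadClosedLib
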